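import Mathlib.RingTheory.AlgebraicIndependent.AlgebraicClosure
import Mathlib.RingTheory.AlgebraicIndependent.TranscendenceBasis
import Mathlib.RingTheory.TensorProduct.MvPolynomial
import Mathlib.RingTheory.Flat.Basic
import Mathlib.RingTheory.Ideal.MinimalPrime.Localization
import Mathlib.RingTheory.LocalRing.ResidueField.Ideal

/-!
# Algebraic independence over composites of fields
-/

set_option autoImplicit false

namespace K371.Indep

open Set Algebra TensorProduct

universe u

section

variable {ι κ A B M Ω : Type*} [Field A] [Field B] [Field M] [Field Ω]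
  [Algebra A B] [Algebra A Ω] [Algebra B Ω] [Algebra M Ω] [IsScalarTower A B Ω]

/-- If `x` in `B` is algebraically independent over `A` and `y` is algebraically independent over
`B`, then `x` is algebraically independent over every `M` which is algebraic over `A(y)`. -/
theorem algebraicIndependent_of_isAlgebraic {x : ι → B} (hx : AlgebraicIndependent A x)
    {y : κ → Ω} (hy : AlgebraicIndependent B y)
    (hM : ∀ m : M, IsAlgebraic (adjoin A (range y)) (algebraMap M Ω m)) :
    AlgebraicIndependent M (fun i => algebraMap B Ω (x i)) := by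
  have h1 : AlgebraicIndependent A (Sum.elim y (algebraMap B Ω ∘ x)) := hx.sumElim_comp hy
  have h2 : AlgebraicIndependent A (Sum.elim (algebraMap B Ω ∘ x) y) := by
    have := (algebraicIndependent_equiv (Equiv.sumComm ι κ)).2 h1
    convert this using 1
    funext z
    rcases z with z | z <;> rfl
  have h3 : AlgebraicIndependent (adjoin A (range y)) (algebraMap B Ω ∘ x) :=
    (AlgebraicIndependent.sumElim_iff.1 h2).2
  have h4 := h3.subalgebraAlgebraicClosure
  let R' := adjoin A (range y)
  let S' := Subalgebra.algebraicClosure R' Ω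
  let j : M →+* S' := (algebraMap M Ω).codRestrict S'.toSubring (fun m => hM m)
  let _ : Algebra M S' := j.toAlgebra
  have : IsScalarTower M S' Ω := .of_algebraMap_eq fun m => rfl
  exact AlgebraicIndependent.restrictScalars (R := M) (K := S') (j.injective) h4

end

section

variable {ι κ A B C E : Type u} [Field A] [Field B] [Field C] [Field E]
  [Algebra A B] [Algebra A C] [Algebra A E] [Algebra B E] [Algebra C E]
  [IsScalarTower A B E] [IsScalarTower A C E]

theorem isAlgebraic_adjoin_of_gen
    (gen : ∀ F : Subfield E, (∀ b, algebraMap B E b ∈ F) → (∀ c, algebraMap C E c ∈ F) → F = ⊤)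
    {t : ι → C} (ht : Algebra.IsAlgebraic (adjoin A (range t)) C) :
    Algebra.IsAlgebraic (adjoin B (range (fun i => algebraMap C E (t i)))) E := by
  let D := adjoin B (range (fun i => algebraMap C E (t i)))
  have h2 : ∀ b : C, IsAlgebraic D (algebraMap C E b) := by
    intro b
    obtain ⟨P, hP0, hP⟩ := ht.isAlgebraic b
    have hmap : ∀ c : adjoin A (range t), algebraMap C E c ∈ D := by
      intro c
      have : (IsScalarTower.toAlgHom A C E) c ∈
          (adjoin A (range t)).map (IsScalarTower.toAlgHom A C E) := ⟨c, c.2, rfl⟩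
      rw [AlgHom.map_adjoin] at this
      have hle : adjoin A ((IsScalarTower.toAlgHom A C E) '' (range t)) ≤ D.restrictScalars A := by
        refine Algebra.adjoin_le ?_
        rintro _ ⟨_, ⟨i, rfl⟩, rfl⟩
        exact Algebra.subset_adjoin ⟨i, rfl⟩
      exact hle this
    let j : adjoin A (range t) →+* D :=
      ((algebraMap C E).comp (adjoin A (range t)).val.toRingHom).codRestrict D.toSubring hmap
    have hj : Function.Injective j := by
      intro c c' h
      have : algebraMap C E c = algebraMap C E c' := congrArg Subtype.val h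
      exact Subtype.ext ((algebraMap C E).injective this)
    refine ⟨P.map j, (Polynomial.map_ne_zero_iff hj).2 hP0, ?_⟩
    rw [Polynomial.aeval_def, Polynomial.eval₂_map]
    have h3 : (algebraMap D E).comp j = (algebraMap C E).comp (algebraMap (adjoin A (range t)) C) :=
      rfl
    rw [h3, ← Polynomial.hom_eval₂, ← Polynomial.aeval_def, hP, map_zero]
  have h1 : ∀ a : B, IsAlgebraic D (algebraMap B E a) := by
    intro a
    have : algebraMap B E a = algebraMap D E (algebraMap B D a) := rfl
    rw [this]
    exact isAlgebraic_algebraMap _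
  let F : Subfield E :=
    { carrier := {e | IsAlgebraic D e}
      mul_mem' := fun ha hb => ha.mul hb
      one_mem' := isAlgebraic_one
      add_mem' := fun ha hb => ha.add hb
      zero_mem' := isAlgebraic_zero
      neg_mem' := fun ha => ha.neg
      inv_mem' := fun _ ha => IsAlgebraic.inv ha }
  have hF : F = ⊤ := gen F h1 h2
  refine ⟨fun z => ?_⟩
  have : z ∈ F := hF ▸ Subfield.mem_top z
  exact this

/-- A finite transcendence basis of `C / A` stays algebraically independent over `B` in the
composite `E = B C` as soon as `trdeg(E / B)` is large enough. -/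
theorem algebraicIndependent_of_trdeg [Finite ι]
    (gen : ∀ F : Subfield E, (∀ b, algebraMap B E b ∈ F) → (∀ c, algebraMap C E c ∈ F) → F = ⊤)
    {t : ι → C} (ht : Algebra.IsAlgebraic (adjoin A (range t)) C)
    (hr : Cardinal.mk ι ≤ Algebra.trdeg B E) :
    AlgebraicIndependent B (fun i => algebraMap C E (t i)) := by
  have := isAlgebraic_adjoin_of_gen (B := B) gen ht
  exact (Algebra.IsAlgebraic.isTranscendenceBasis_of_le_trdeg_of_finite B
    (fun i => algebraMap C E (t i)) hr).1

/-- A family in `B` which is algebraically independent over `A` is algebraically independent over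
`C` in `E = B C`, if `trdeg(E / B)` is large enough. -/
theorem algebraicIndependent_right [Finite ι]
    (gen : ∀ F : Subfield E, (∀ b, algebraMap B E b ∈ F) → (∀ c, algebraMap C E c ∈ F) → F = ⊤)
    {t : ι → C} (ht : Algebra.IsAlgebraic (adjoin A (range t)) C)
    (hr : Cardinal.mk ι ≤ Algebra.trdeg B E)
    {v : κ → B} (hv : AlgebraicIndependent A v) :
    AlgebraicIndependent C (fun i => algebraMap B E (v i)) := by
  have h1 := algebraicIndependent_of_trdeg gen ht hr
  refine algebraicIndependent_of_isAlgebraic (A := A) hv h1 (fun c => ?_)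
  obtain ⟨P, hP0, hP⟩ := ht.isAlgebraic c
  have hmap : ∀ c : adjoin A (range t), algebraMap C E c ∈
      adjoin A (range (fun i => algebraMap C E (t i))) := by
    intro c
    have : (IsScalarTower.toAlgHom A C E) c ∈
        (adjoin A (range t)).map (IsScalarTower.toAlgHom A C E) := ⟨c, c.2, rfl⟩
    rw [AlgHom.map_adjoin] at this
    refine Algebra.adjoin_mono ?_ this
    rintro _ ⟨_, ⟨i, rfl⟩, rfl⟩
    exact ⟨i, rfl⟩
  let j : adjoin A (range t) →+* adjoin A (range (fun i => algebraMap C E (t i))) :=
    ((algebraMap C E).comp (adjoin A (range t)).val.toRingHom).codRestrict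
      (adjoin A (range (fun i => algebraMap C E (t i)))).toSubring hmap
  have hj : Function.Injective j := by
    intro c c' h
    have : algebraMap C E c = algebraMap C E c' := congrArg Subtype.val h
    exact Subtype.ext ((algebraMap C E).injective this)
  refine ⟨P.map j, (Polynomial.map_ne_zero_iff hj).2 hP0, ?_⟩
  rw [Polynomial.aeval_def, Polynomial.eval₂_map]
  have h3 : (algebraMap (adjoin A (range (fun i => algebraMap C E (t i)))) E).comp j =
      (algebraMap C E).comp (algebraMap (adjoin A (range t)) C) := rfl
  rw [h3, ← Polynomial.hom_eval₂, ← Polynomial.aeval_def, hP, map_zero]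

end

section

variable {k K₁ K₂ : Type u} [Field k] [Field K₁] [Field K₂] [Algebra k K₁] [Algebra k K₂]

/-- Two extensions of a field have a common extension in which a given algebraically independent
family of the first one stays algebraically independent over the second one. -/
theorem exists_common_ext {s : Type u} {t : s → K₁} (ht : AlgebraicIndependent k t) :
    ∃ (L : Type u) (_ : Field L) (a : K₁ →+* L) (b : K₂ →+* L),
      a.comp (algebraMap k K₁) = b.comp (algebraMap k K₂) ∧
      letI := b.toAlgebra
      AlgebraicIndependent K₂ (fun i => a (t i)) := by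
  let e := (MvPolynomial.algebraTensorAlgEquiv (R := k) (σ := s) (A := K₂)).symm
  let Φ : MvPolynomial s K₂ →ₐ[K₂] K₂ ⊗[k] K₁ :=
    (Algebra.TensorProduct.map (AlgHom.id K₂ K₂)
      (MvPolynomial.aeval t : MvPolynomial s k →ₐ[k] K₁)).comp e.toAlgHom
  have hΦ : Function.Injective Φ := by
    have h1 : Function.Injective (Algebra.TensorProduct.map (AlgHom.id K₂ K₂)
        (MvPolynomial.aeval t : MvPolynomial s k →ₐ[k] K₁)) := by
      have := Module.Flat.lTensor_preserves_injective_linearMap (M := K₂)
        (MvPolynomial.aeval t : MvPolynomial s k →ₐ[k] K₁).toLinearMap ht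
      exact this
    exact h1.comp e.injective
  obtain ⟨P, hP, hP'⟩ := Ideal.exists_comap_eq_of_mem_minimalPrimes_of_injective
    (f := Φ.toRingHom) hΦ ⊥ (by
      rw [IsDomain.minimalPrimes_eq_singleton_bot]; rfl)
  let L := P.ResidueField
  let π : K₂ ⊗[k] K₁ →+* L := algebraMap _ _
  have hπ : ∀ x, π x = 0 ↔ x ∈ P := fun x => Ideal.algebraMap_residueField_eq_zero
  let a : K₁ →+* L := π.comp (Algebra.TensorProduct.includeRight : K₁ →ₐ[k] K₂ ⊗[k] K₁).toRingHom
  let b : K₂ →+* L := π.comp (Algebra.TensorProduct.includeLeft : K₂ →ₐ[k] K₂ ⊗[k] K₁).toRingHom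
  refine ⟨L, inferInstance, a, b, ?_, ?_⟩
  · ext x
    change π ((Algebra.TensorProduct.includeRight : K₁ →ₐ[k] K₂ ⊗[k] K₁) (algebraMap k K₁ x)) =
      π ((Algebra.TensorProduct.includeLeft : K₂ →ₐ[k] K₂ ⊗[k] K₁) (algebraMap k K₂ x))
    rw [AlgHom.commutes, AlgHom.commutes]
  · let _ := b.toAlgebra
    rw [AlgebraicIndependent]
    have key : (MvPolynomial.aeval (fun i => a (t i)) : MvPolynomial s K₂ →ₐ[K₂] L).toRingHom =
        π.comp Φ.toRingHom := by
      apply MvPolynomial.ringHom_ext
      · intro r
        have h5 : Φ (MvPolynomial.C r) = r ⊗ₜ 1 := by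
          have : (MvPolynomial.C r : MvPolynomial s K₂) = algebraMap K₂ _ r := rfl
          rw [this, AlgHom.commutes]
          rfl
        change MvPolynomial.aeval _ (MvPolynomial.C r) = π (Φ (MvPolynomial.C r))
        rw [h5, MvPolynomial.aeval_C]
        rfl
      · intro i
        have h5 : Φ (MvPolynomial.X i) = 1 ⊗ₜ t i := by
          simp [Φ, e]
        change MvPolynomial.aeval _ (MvPolynomial.X i) = π (Φ (MvPolynomial.X i))
        rw [h5, MvPolynomial.aeval_X]
        rfl
    have h2 : Function.Injective (π.comp Φ.toRingHom) := by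
      rw [injective_iff_map_eq_zero]
      intro x hx
      have h3 : x ∈ P.comap Φ.toRingHom := (hπ _).1 hx
      rw [hP'] at h3
      exact h3
    rw [← key] at h2
    exact h2

end

end K371.Indep
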