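import Groth.Agent.RelCyc.K371.Indep
import Groth.Agent.Sga2lef.H98.Rtd

/-!
# Points of a fibre product over a pair of points with the same transcendence degree
-/

set_option autoImplicit false
universe u

open CategoryTheory Limits AlgebraicGeometry

namespace K371.PairPoint

open Groth.Agent.CycB.TrdegAlg Groth.Agent.CycB.RelDim Groth.Agent.Sga2lef.H98

variable {X Y Z : Scheme.{u}}

/-- The residue field map with a free image point. -/
noncomputable def rmap (h : X ⟶ Y) (x : X) (y : Y) (e : h x = y) :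
    Y.residueField y →+* X.residueField x :=
  ((Y.residueFieldCongr e.symm).hom ≫ h.residueFieldMap x).hom

theorem rmap_rfl (h : X ⟶ Y) (x : X) : rmap h x (h x) rfl = (h.residueFieldMap x).hom := by
  rw [rmap, Scheme.residueFieldCongr_refl]
  rfl

theorem rmap_comp (h : X ⟶ Y) (k : Y ⟶ Z) (x : X) (y : Y) (z : Z) (e₁ : h x = y) (e₂ : k y = z)
    (e : (h ≫ k) x = z) :
    rmap (h ≫ k) x z e = (rmap h x y e₁).comp (rmap k y z e₂) := by
  subst e₁ e₂
  have : rmap (h ≫ k) x (k (h x)) e = ((h ≫ k).residueFieldMap x).hom := rmap_rfl (h ≫ k) x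
  rw [this, rmap_rfl, rmap_rfl, Scheme.residueFieldMap_comp]
  rfl

theorem rmap_congr {h h' : X ⟶ Y} (hh : h = h') (x : X) (y : Y) (e : h x = y) (e' : h' x = y) :
    rmap h x y e = rmap h' x y e' := by
  subst hh
  rfl

theorem trd_rmap (h : X ⟶ Y) (x : X) (y : Y) (e : h x = y) : trd (rmap h x y e) = rtd h x := by
  subst e
  rw [rmap_rfl]
  rfl

theorem fromSpec_rmap (h : X ⟶ Y) (x : X) (y : Y) (e : h x = y) :
    Spec.map (CommRingCat.ofHom (rmap h x y e)) ≫ Y.fromSpecResidueField y =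
      X.fromSpecResidueField x ≫ h := by
  subst e
  rw [rmap_rfl]
  exact h.SpecMap_residueFieldMap_fromSpecResidueField x

theorem gen_rmap {S P : Scheme.{u}} {f : X ⟶ S} {g : Y ⟶ S} {p : P ⟶ X} {q : P ⟶ Y}
    (H : IsPullback p q f g) (z : P) (x : X) (y : Y) (e₁ : p z = x) (e₂ : q z = y)
    (F : Subfield (P.residueField z)) (h1 : ∀ a, rmap p z x e₁ a ∈ F)
    (h2 : ∀ b, rmap q z y e₂ b ∈ F) : F = ⊤ := by
  subst e₁ e₂
  rw [rmap_rfl] at h1 h2
  exact Rtd.gen_residue H z F h1 h2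

/-- Two points of `X` with the same image in `S`, with compatible maps from their residue fields
to a field `Ω`. -/
theorem exists_point_of_fields {S P : Scheme.{u}} {f : X ⟶ S} {g : Y ⟶ S} {p : P ⟶ X} {q : P ⟶ Y}
    (H : IsPullback p q f g) (x : X) (y : Y) (s : S) (e₁ : f x = s) (e₂ : g y = s)
    {Ω : Type u} [Field Ω] (b : X.residueField x →+* Ω) (a : Y.residueField y →+* Ω)
    (hab : b.comp (rmap f x s e₁) = a.comp (rmap g y s e₂)) :
    ∃ (z : P) (hx : p z = x) (hy : q z = y) (φ : P.residueField z →+* Ω),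
      φ.comp (rmap p z x hx) = b ∧ φ.comp (rmap q z y hy) = a := by
  let u : Spec (CommRingCat.of Ω) ⟶ X :=
    Spec.map (CommRingCat.ofHom b) ≫ X.fromSpecResidueField x
  let v : Spec (CommRingCat.of Ω) ⟶ Y :=
    Spec.map (CommRingCat.ofHom a) ≫ Y.fromSpecResidueField y
  have huv : u ≫ f = v ≫ g := by
    have h1 : u ≫ f = Spec.map (CommRingCat.ofHom (b.comp (rmap f x s e₁))) ≫
        S.fromSpecResidueField s := by
      rw [CommRingCat.ofHom_comp, Spec.map_comp, Category.assoc, Category.assoc,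
        fromSpec_rmap]
    have h2 : v ≫ g = Spec.map (CommRingCat.ofHom (a.comp (rmap g y s e₂))) ≫
        S.fromSpecResidueField s := by
      rw [CommRingCat.ofHom_comp, Spec.map_comp, Category.assoc, Category.assoc,
        fromSpec_rmap]
    rw [h1, h2, hab]
  obtain ⟨z, φ, hφ⟩ := Rtd.exists_eq_of_field (H.lift u v huv)
  have hu : (Spec.map φ ≫ P.fromSpecResidueField z) ≫ p = u := by rw [← hφ, H.lift_fst]
  have hv : (Spec.map φ ≫ P.fromSpecResidueField z) ≫ q = v := by rw [← hφ, H.lift_snd]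
  have hx : p z = x := by
    have h5 := congr(($hu) (⊥ : PrimeSpectrum Ω))
    rw [Scheme.Hom.comp_apply, Scheme.Hom.comp_apply, P.fromSpecResidueField_apply] at h5
    rw [h5, Scheme.Hom.comp_apply, X.fromSpecResidueField_apply]
  have hy : q z = y := by
    have h5 := congr(($hv) (⊥ : PrimeSpectrum Ω))
    rw [Scheme.Hom.comp_apply, Scheme.Hom.comp_apply, P.fromSpecResidueField_apply] at h5
    rw [h5, Scheme.Hom.comp_apply, Y.fromSpecResidueField_apply]
  refine ⟨z, hx, hy, φ.hom, ?_, ?_⟩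
  · have h6 : CommRingCat.ofHom (rmap p z x hx) ≫ φ = CommRingCat.ofHom b := by
      apply Spec.map_injective
      rw [← cancel_mono (X.fromSpecResidueField x), Spec.map_comp, Category.assoc,
        fromSpec_rmap, ← Category.assoc, hu]
    exact congr(($h6).hom)
  · have h6 : CommRingCat.ofHom (rmap q z y hy) ≫ φ = CommRingCat.ofHom a := by
      apply Spec.map_injective
      rw [← cancel_mono (Y.fromSpecResidueField y), Spec.map_comp, Category.assoc,
        fromSpec_rmap, ← Category.assoc, hv]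
    exact congr(($h6).hom)

section Fields

open Set Algebra

/-- The field theoretic part: a common extension of two field extensions `L₁ ⊇ K₁`, `L₂ ⊇ K₂` over
`L ⊇ K`, in which a transcendence basis of `L / K` stays independent over `K₁ K₂`. -/
theorem exists_ext {K K₁ K₂ L L₁ L₂ : Type u} [Field K] [Field K₁] [Field K₂] [Field L] [Field L₁]
    [Field L₂] (i : K →+* L) (j₁ : K →+* K₁) (j₂ : K →+* K₂) (m₁ : K₁ →+* L₁) (n₁ : L →+* L₁)
    (m₂ : K₂ →+* L₂) (n₂ : L →+* L₂) (c₁ : m₁.comp j₁ = n₁.comp i) (c₂ : m₂.comp j₂ = n₂.comp i)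
    (gen₁ : ∀ F : Subfield L₁, (∀ b, m₁ b ∈ F) → (∀ c, n₁ c ∈ F) → F = ⊤)
    (gen₂ : ∀ F : Subfield L₂, (∀ b, m₂ b ∈ F) → (∀ c, n₂ c ∈ F) → F = ⊤)
    (r : ℕ) (hi : trd i = r) (hm₁ : trd m₁ = r) (hm₂ : trd m₂ = r) :
    ∃ (Ω : Type u) (_ : Field Ω) (b : L₁ →+* Ω) (a : L₂ →+* Ω), b.comp n₁ = a.comp n₂ ∧
      ∀ (M N : Type u) [Field M] [Field N] (φ : N →+* Ω) (d : M →+* N) (e₁ : K₁ →+* M)
        (e₂ : K₂ →+* M) (l : L →+* N), φ.comp (d.comp e₁) = b.comp m₁ →
        φ.comp (d.comp e₂) = a.comp m₂ → φ.comp l = b.comp n₁ →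
        (∀ F : Subfield M, (∀ x, e₁ x ∈ F) → (∀ x, e₂ x ∈ F) → F = ⊤) →
        (r : Cardinal.{u}) ≤ trd d := by
  let _ : Algebra K L := i.toAlgebra
  let _ : Algebra K K₁ := j₁.toAlgebra
  let _ : Algebra K K₂ := j₂.toAlgebra
  let _ : Algebra K₁ L₁ := m₁.toAlgebra
  let _ : Algebra K₂ L₂ := m₂.toAlgebra
  let _ : Algebra L L₁ := n₁.toAlgebra
  let _ : Algebra L L₂ := n₂.toAlgebra
  let _ : Algebra K L₁ := (n₁.comp i).toAlgebra
  let _ : Algebra K L₂ := (n₂.comp i).toAlgebra
  have : IsScalarTower K L L₁ := .of_algebraMap_eq fun _ => rfl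
  have : IsScalarTower K L L₂ := .of_algebraMap_eq fun _ => rfl
  have : IsScalarTower K K₁ L₁ := .of_algebraMap_eq fun x => (RingHom.congr_fun c₁ x).symm
  have : IsScalarTower K K₂ L₂ := .of_algebraMap_eq fun x => (RingHom.congr_fun c₂ x).symm
  obtain ⟨s, hs⟩ := exists_isTranscendenceBasis K L
  have hcard : Cardinal.mk s = r := hs.cardinalMk_eq_trdeg.trans hi
  have hfin : Finite s := by
    rw [← Cardinal.lt_aleph0_iff_finite, hcard]
    exact Cardinal.natCast_lt_aleph0
  let t : s → L := Subtype.val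
  have ht : Algebra.IsAlgebraic (adjoin K (range t)) L := hs.isAlgebraic
  obtain ⟨w, hw⟩ := exists_isTranscendenceBasis K K₂
  let v : w → K₂ := Subtype.val
  have hv : AlgebraicIndependent K v := hw.1
  have hv' : Algebra.IsAlgebraic (adjoin K (range v)) K₂ := hw.isAlgebraic
  have h1 : AlgebraicIndependent K₁ (fun k => algebraMap L L₁ (t k)) :=
    Indep.algebraicIndependent_of_trdeg (A := K) gen₁ ht (by rw [hcard]; exact hm₁.ge)
  have h2 : AlgebraicIndependent L (fun k => algebraMap K₂ L₂ (v k)) :=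
    Indep.algebraicIndependent_right (A := K) gen₂ ht (by rw [hcard]; exact hm₂.ge) hv
  obtain ⟨Ω, _, a, b, hab, hind⟩ := Indep.exists_common_ext (K₂ := L₁) h2
  refine ⟨Ω, inferInstance, b, a, hab.symm, ?_⟩
  intro M N _ _ φ d e₁ e₂ l he₁ he₂ hl hgen
  let _ : Algebra L₁ Ω := b.toAlgebra
  let _ : Algebra K₁ Ω := (b.comp m₁).toAlgebra
  let _ : Algebra M Ω := (φ.comp d).toAlgebra
  have : IsScalarTower K₁ L₁ Ω := .of_algebraMap_eq fun _ => rfl
  let y : w → Ω := fun k => a (algebraMap K₂ L₂ (v k))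
  let D := adjoin K₁ (range y)
  have halg1 : ∀ k : K₁, IsAlgebraic D (algebraMap M Ω (e₁ k)) := by
    intro k
    have h3 : algebraMap M Ω (e₁ k) = algebraMap D Ω (algebraMap K₁ D k) :=
      RingHom.congr_fun he₁ k
    rw [h3]
    exact isAlgebraic_algebraMap _
  have halg2 : ∀ k : K₂, IsAlgebraic D (algebraMap M Ω (e₂ k)) := by
    intro k
    have h3 : algebraMap M Ω (e₂ k) = a (m₂ k) := RingHom.congr_fun he₂ k
    rw [h3]
    obtain ⟨P, hP0, hP⟩ := hv'.isAlgebraic k
    have hcomp : ∀ z : K, a (m₂ (j₂ z)) = b (m₁ (j₁ z)) := by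
      intro z
      have e3 := RingHom.congr_fun c₁ z
      have e4 := RingHom.congr_fun c₂ z
      have e5 := RingHom.congr_fun hab (i z)
      simp only [RingHom.comp_apply] at e3 e4 e5
      rw [e3, e4]
      exact e5
    have hmap : ∀ c : adjoin K (range v), a (m₂ c) ∈ D := by
      rintro ⟨c, hc⟩
      refine Algebra.adjoin_induction (p := fun c _ => a (m₂ c) ∈ D) ?_ ?_ ?_ ?_ hc
      · rintro _ ⟨z, rfl⟩
        exact Algebra.subset_adjoin ⟨z, rfl⟩
      · intro z
        have : a (m₂ (algebraMap K K₂ z)) = algebraMap K₁ Ω (j₁ z) := hcomp z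
        rw [this]
        exact D.algebraMap_mem _
      · intro x y _ _ hx hy
        rw [map_add, map_add]
        exact D.add_mem hx hy
      · intro x y _ _ hx hy
        rw [map_mul, map_mul]
        exact D.mul_mem hx hy
    let j : adjoin K (range v) →+* D :=
      ((a.comp m₂).comp (adjoin K (range v)).val.toRingHom).codRestrict D.toSubring hmap
    have hj : Function.Injective j := by
      intro c c' h
      have : (a.comp m₂) c = (a.comp m₂) c' := congrArg Subtype.val h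
      exact Subtype.ext ((a.comp m₂).injective this)
    refine ⟨P.map j, (Polynomial.map_ne_zero_iff hj).2 hP0, ?_⟩
    rw [Polynomial.aeval_def, Polynomial.eval₂_map]
    have h4 : (algebraMap D Ω).comp j = (a.comp m₂).comp (algebraMap (adjoin K (range v)) K₂) :=
      rfl
    have h5 : a (m₂ k) = (a.comp m₂) k := rfl
    rw [h4, h5, ← Polynomial.hom_eval₂, ← Polynomial.aeval_def, hP, map_zero]
  let F : Subfield M :=
    { carrier := {m | IsAlgebraic D (algebraMap M Ω m)}
      mul_mem' := fun {x y} ha hb => by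
        have : IsAlgebraic D (algebraMap M Ω x * algebraMap M Ω y) := IsAlgebraic.mul ha hb
        rw [← map_mul] at this
        exact this
      one_mem' := by
        have : IsAlgebraic D (algebraMap M Ω 1) := by
          rw [map_one]; exact isAlgebraic_one
        exact this
      add_mem' := fun {x y} ha hb => by
        have : IsAlgebraic D (algebraMap M Ω x + algebraMap M Ω y) := IsAlgebraic.add ha hb
        rw [← map_add] at this
        exact this
      zero_mem' := by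
        have : IsAlgebraic D (algebraMap M Ω 0) := by
          rw [map_zero]; exact isAlgebraic_zero
        exact this
      neg_mem' := fun {x} ha => by
        have : IsAlgebraic D (- algebraMap M Ω x) := IsAlgebraic.neg ha
        rw [← map_neg] at this
        exact this
      inv_mem' := fun x ha => by
        have : IsAlgebraic D ((algebraMap M Ω x)⁻¹) := IsAlgebraic.inv ha
        rw [← map_inv₀] at this
        exact this }
  have hF : F = ⊤ := hgen F halg1 halg2
  have h6 : AlgebraicIndependent M (fun k => algebraMap L₁ Ω (algebraMap L L₁ (t k))) := by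
    refine Indep.algebraicIndependent_of_isAlgebraic (A := K₁) h1 (y := y) hind (fun m => ?_)
    have : m ∈ F := hF ▸ Subfield.mem_top m
    exact this
  let _ : Algebra M N := d.toAlgebra
  let φ' : N →ₐ[M] Ω := { φ with commutes' := fun _ => rfl }
  have h7 : AlgebraicIndependent M (fun k => l (t k)) := by
    refine (φ'.algebraicIndependent_iff φ.injective).1 ?_
    have h8 : (φ' ∘ fun k => l (t k)) =
        fun k => algebraMap L₁ Ω (algebraMap L L₁ (t k)) := by
      funext k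
      exact RingHom.congr_fun hl (t k)
    rw [h8]
    exact h6
  have h9 := h7.cardinalMk_le_trdeg
  rw [hcard] at h9
  exact h9

end Fields

theorem exists_point {X S S' S'' X' X'' : Scheme.{u}}
    (f : X ⟶ S) (r : ℕ) (g : S' ⟶ S)
    (p q : S'' ⟶ S') (hS : IsPullback p q g g)
    (f' : X' ⟶ S') (g' : X' ⟶ X) (hX : IsPullback g' f' f g)
    (f'' : X'' ⟶ S'') (p' q' : X'' ⟶ X') (hp : IsPullback p' f'' f' p) (hq : IsPullback q' f'' f' q)
    (hpq : p' ≫ g' = q' ≫ g')
    (x : X) (hx : rtd f x = r)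
    (x₁ x₂ : X') (h₁ : g' x₁ = x) (h₂ : g' x₂ = x)
    (hx₁ : rtd f' x₁ = r) (hx₂ : rtd f' x₂ = r) :
    ∃ x'' : X'', rtd f'' x'' = r ∧ p' x'' = x₁ ∧ q' x'' = x₂ := by
  -- `X'' = X' ×_X X'`
  have hXX : IsPullback p' q' g' g' := by
    have h1 : IsPullback p' (f'' ≫ q) (f' ≫ g) g := hp.paste_vert hS
    rw [← hq.w, ← hX.w] at h1
    exact IsPullback.of_bot h1 hpq hX
  have hpt (y : X') : g (f' y) = f (g' y) := by
    rw [← Scheme.Hom.comp_apply, ← Scheme.Hom.comp_apply, hX.w]
  have es₁ : g (f' x₁) = f x := by rw [hpt, h₁]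
  have es₂ : g (f' x₂) = f x := by rw [hpt, h₂]
  have c₁ : (rmap f' x₁ (f' x₁) rfl).comp (rmap g (f' x₁) (f x) es₁) =
      (rmap g' x₁ x h₁).comp (rmap f x (f x) rfl) := by
    rw [← rmap_comp f' g x₁ (f' x₁) (f x) rfl es₁ es₁,
      ← rmap_comp g' f x₁ x (f x) h₁ rfl (by rw [Scheme.Hom.comp_apply, h₁])]
    exact rmap_congr hX.w.symm _ _ _ _
  have c₂ : (rmap f' x₂ (f' x₂) rfl).comp (rmap g (f' x₂) (f x) es₂) =
      (rmap g' x₂ x h₂).comp (rmap f x (f x) rfl) := by
    rw [← rmap_comp f' g x₂ (f' x₂) (f x) rfl es₂ es₂,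
      ← rmap_comp g' f x₂ x (f x) h₂ rfl (by rw [Scheme.Hom.comp_apply, h₂])]
    exact rmap_congr hX.w.symm _ _ _ _
  obtain ⟨Ω, _, b, a, hab, hΩ⟩ := exists_ext (rmap f x (f x) rfl) (rmap g (f' x₁) (f x) es₁)
    (rmap g (f' x₂) (f x) es₂) (rmap f' x₁ (f' x₁) rfl) (rmap g' x₁ x h₁)
    (rmap f' x₂ (f' x₂) rfl) (rmap g' x₂ x h₂) c₁ c₂
    (fun F hF1 hF2 => gen_rmap hX x₁ x (f' x₁) h₁ rfl F hF2 hF1)
    (fun F hF1 hF2 => gen_rmap hX x₂ x (f' x₂) h₂ rfl F hF2 hF1) r
    ((trd_rmap _ _ _ _).trans hx) ((trd_rmap _ _ _ _).trans hx₁) ((trd_rmap _ _ _ _).trans hx₂)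
  obtain ⟨z, hz₁, hz₂, φ, hφ₁, hφ₂⟩ := exists_point_of_fields hXX x₁ x₂ x h₁ h₂ b a hab
  refine ⟨z, ?_, hz₁, hz₂⟩
  have e₁ : p (f'' z) = f' x₁ := by
    rw [← Scheme.Hom.comp_apply, ← hp.w, Scheme.Hom.comp_apply, hz₁]
  have e₂ : q (f'' z) = f' x₂ := by
    rw [← Scheme.Hom.comp_apply, ← hq.w, Scheme.Hom.comp_apply, hz₂]
  apply le_antisymm
  · -- upper bound
    have hbig : IsPullback (p' ≫ g') f'' f (p ≫ g) := by
      have := hp.flip.paste_vert hX.flip
      exact this.flip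
    have h3 := Rtd.rtd_snd_le hbig z
    have h4 : rtd f ((p' ≫ g') z) = r := by
      have : (p' ≫ g') z = x := by rw [Scheme.Hom.comp_apply, hz₁, h₁]
      rw [this, hx]
    rw [h4] at h3
    exact h3
  · have h5 := hΩ (S''.residueField (f'' z)) (X''.residueField z) φ (rmap f'' z (f'' z) rfl)
      (rmap p (f'' z) (f' x₁) e₁) (rmap q (f'' z) (f' x₂) e₂)
      ((rmap p' z x₁ hz₁).comp (rmap g' x₁ x h₁)) ?_ ?_ ?_ ?_
    · rw [trd_rmap] at h5
      exact h5
    · rw [← rmap_comp f'' p z (f'' z) (f' x₁) rfl e₁ e₁, ← hφ₁, RingHom.comp_assoc,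
        ← rmap_comp p' f' z x₁ (f' x₁) hz₁ rfl (by rw [Scheme.Hom.comp_apply, hz₁])]
      congr 1
      exact rmap_congr hp.w.symm _ _ _ _
    · rw [← rmap_comp f'' q z (f'' z) (f' x₂) rfl e₂ e₂, ← hφ₂, RingHom.comp_assoc,
        ← rmap_comp q' f' z x₂ (f' x₂) hz₂ rfl (by rw [Scheme.Hom.comp_apply, hz₂])]
      congr 1
      exact rmap_congr hq.w.symm _ _ _ _
    · rw [← hφ₁, RingHom.comp_assoc]
    · intro F hF1 hF2
      exact gen_rmap hS (f'' z) (f' x₁) (f' x₂) e₁ e₂ F hF1 hF2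

end K371.PairPoint
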